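import Cfsg.Prelude.Def_EvenType

/-!
# Base lemmas for the 2-rank from below

* `congr` : `PRankAtLeast` is invariant under isomorphism;
* `of_subgroup`, `of_map` (a homomorphism from an additive group of exponent 2 which is injective);
* `of_quot` : the same into a quotient;
* `of_three` : three independent commuting involutions.
-/

set_option autoImplicit false

namespace Cfsg.Agent.RankThreeTwo.Base

open Cfsg

theorem of_inj {G H : Type*} [Group G] [Group H] {p k : ℕ} (e : H →* G) (he : Function.Injective e)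
    (h : PRankAtLeast p k H) : PRankAtLeast p k G := by
  obtain ⟨A, hA, hp, hc⟩ := h
  refine ⟨A.map e, ⟨⟨?_⟩⟩, ?_, ?_⟩
  · rintro ⟨_, x, hx, rfl⟩ ⟨_, y, hy, rfl⟩
    have h1 : x * y = y * x := congrArg Subtype.val (hA.is_comm.comm (⟨x, hx⟩ : A) ⟨y, hy⟩)
    apply Subtype.ext
    change e x * e y = e y * e x
    rw [← map_mul, h1, map_mul]
  · rintro _ ⟨x, hx, rfl⟩
    rw [← map_pow, hp x hx, map_one]
  · rw [Subgroup.card_map_of_injective he]
    exact hc

theorem congr {G H : Type*} [Group G] [Group H] {p k : ℕ} (e : G ≃* H) (h : PRankAtLeast p k H) :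
    PRankAtLeast p k G :=
  of_inj e.symm.toMonoidHom e.symm.injective h

theorem of_subgroup {G : Type*} [Group G] {p k : ℕ} (H : Subgroup G) (h : PRankAtLeast p k H) :
    PRankAtLeast p k G :=
  of_inj H.subtype H.subtype_injective h

/-- an injective homomorphism from an additive group of exponent `2` and order at least `2 ^ k` -/
theorem of_map {V G : Type*} [AddCommGroup V] [Group G] {k : ℕ} (hV : ∀ v : V, v + v = 0)
    (hc : 2 ^ k ≤ Nat.card V) (f : V → G) (hf : ∀ u v, f (u + v) = f u * f v)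
    (hi : ∀ v, f v = 1 → v = 0) : PRankAtLeast 2 k G := by
  let φ : Multiplicative V →* G :=
    { toFun := fun v => f v.toAdd
      map_one' := by
        have h := hf 0 0
        rw [add_zero] at h
        exact (left_eq_mul.1 h)
      map_mul' := fun u v => hf _ _ }
  have hφ : Function.Injective φ := by
    rw [injective_iff_map_eq_one]
    intro v hv
    exact hi v.toAdd hv
  refine of_inj φ hφ ⟨⊤, ⟨⟨fun a b => Subtype.ext (mul_comm _ _)⟩⟩, ?_, ?_⟩
  · intro a _
    rw [pow_two]
    exact hV a.toAdd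
  · rw [Subgroup.card_top]
    exact hc

/-- the same into a quotient -/
theorem of_quot {V G : Type*} [AddCommGroup V] [Group G] {k : ℕ} (hV : ∀ v : V, v + v = 0)
    (hc : 2 ^ k ≤ Nat.card V) (N : Subgroup G) [N.Normal] (f : V → G) (hf : ∀ u v, f (u + v) = f u * f v)
    (hi : ∀ v, f v ∈ N → v = 0) : PRankAtLeast 2 k (G ⧸ N) := by
  refine of_map hV hc (fun v => ((f v : G) : G ⧸ N)) (fun u v => ?_) fun v hv => ?_
  · show ((f (u + v) : G) : G ⧸ N) = _
    rw [hf]
    rfl
  · exact hi v ((QuotientGroup.eq_one_iff _).1 hv)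

theorem mono {G : Type*} [Group G] {p k l : ℕ} (hp : 0 < p) (hkl : k ≤ l) (h : PRankAtLeast p l G) :
    PRankAtLeast p k G := by
  obtain ⟨A, hA, hq, hc⟩ := h
  exact ⟨A, hA, hq, (Nat.pow_le_pow_right hp hkl).trans hc⟩

/-- commuting elements: a homomorphism from three commuting one-parameter groups -/
theorem of_mul_three {V G : Type*} [AddCommGroup V] [Group G] {k : ℕ} (hV : ∀ v : V, v + v = 0)
    (hc : 2 ^ k ≤ Nat.card V ^ 3) (f g h : V → G)
    (hf : ∀ u v, f (u + v) = f u * f v) (hg : ∀ u v, g (u + v) = g u * g v) (hh : ∀ u v, h (u + v) = h u * h v)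
    (hfg : ∀ u v, f u * g v = g v * f u) (hfh : ∀ u v, f u * h v = h v * f u)
    (hgh : ∀ u v, g u * h v = h v * g u)
    (hi : ∀ u v w, f u * g v * h w = 1 → u = 0 ∧ v = 0 ∧ w = 0) : PRankAtLeast 2 k G := by
  refine of_map (V := V × V × V) (fun v => ?_) ?_ (fun v => f v.1 * g v.2.1 * h v.2.2) ?_ ?_
  · exact Prod.ext (hV _) (Prod.ext (hV _) (hV _))
  · rw [Nat.card_prod, Nat.card_prod]
    calc 2 ^ k ≤ Nat.card V ^ 3 := hc
      _ = Nat.card V * (Nat.card V * Nat.card V) := by ring
  · rintro ⟨u, v, w⟩ ⟨u', v', w'⟩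
    simp only [Prod.fst_add, Prod.snd_add]
    rw [hf, hg, hh]
    calc f u * f u' * (g v * g v') * (h w * h w')
        = f u * (f u' * g v) * (g v' * h w) * h w' := by group
      _ = f u * (g v * f u') * (h w * g v') * h w' := by rw [hfg, hgh]
      _ = f u * g v * (f u' * h w) * g v' * h w' := by group
      _ = f u * g v * (h w * f u') * g v' * h w' := by rw [hfh]
      _ = f u * g v * h w * (f u' * g v' * h w') := by group
  · rintro ⟨u, v, w⟩ h1
    obtain ⟨h2, h3, h4⟩ := hi _ _ _ h1
    exact Prod.ext h2 (Prod.ext h3 h4)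

/-- the same with two one-parameter groups -/
theorem of_mul_two {V W G : Type*} [AddCommGroup V] [AddCommGroup W] [Group G] {k : ℕ} (hV : ∀ v : V, v + v = 0)
    (hW : ∀ v : W, v + v = 0) (hc : 2 ^ k ≤ Nat.card V * Nat.card W) (f : V → G) (g : W → G)
    (hf : ∀ u v, f (u + v) = f u * f v) (hg : ∀ u v, g (u + v) = g u * g v)
    (hfg : ∀ u v, f u * g v = g v * f u) (hi : ∀ u v, f u * g v = 1 → u = 0 ∧ v = 0) : PRankAtLeast 2 k G := by
  refine of_map (V := V × W) (fun v => ?_) ?_ (fun v => f v.1 * g v.2) ?_ ?_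
  · exact Prod.ext (hV _) (hW _)
  · rw [Nat.card_prod]
    exact hc
  · rintro ⟨u, v⟩ ⟨u', v'⟩
    simp only [Prod.fst_add, Prod.snd_add]
    rw [hf, hg]
    calc f u * f u' * (g v * g v') = f u * (f u' * g v) * g v' := by group
      _ = f u * (g v * f u') * g v' := by rw [hfg]
      _ = f u * g v * (f u' * g v') := by group
  · rintro ⟨u, v⟩ h1
    obtain ⟨h2, h3⟩ := hi _ _ h1
    exact Prod.ext h2 h3

/-- `v + v = 0` in characteristic two -/
theorem add_self {F : Type*} [Field F] [CharP F 2] (v : F) : v + v = 0 := CharTwo.add_self_eq_zero v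

theorem two_le_card {F : Type*} [Field F] [Fintype F] : 2 ≤ Nat.card F := by
  rw [Nat.card_eq_fintype_card]
  exact Fintype.one_lt_card

end Cfsg.Agent.RankThreeTwo.Base
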